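import Groth.Agent.L08.GrpQC
import Groth.Agent.L19.AlgGrpBasic.GeomPoint
import Groth.Agent.L15.SubGrp.Image
import Groth.Agent.L25.MaxTorus.Image
import Groth.Prelude.Def_AutSch

/-!
Torsion points lift from the component group of a commutative group scheme over an algebraically closed field.
-/

universe u

open CategoryTheory CategoryTheory.Limits MonoidalCategory CartesianMonoidalCategory MonObj AlgebraicGeometry

namespace Groth.L15.TorsLift

open Groth.L19.AlgGrpBasic Groth.L25

variable {k : Type u} [Field k]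

theorem isMonHom_pow (H : Over (Spec (CommRingCat.of k))) [GrpObj H] [IsCommMonObj H] (m : ℕ) :
    IsMonHom ((𝟙 H : H ⟶ H) ^ m) := by
  induction m with
  | zero => rw [pow_zero, Hom.one_def]; infer_instance
  | succ m ih => rw [pow_succ, Hom.mul_def]; infer_instance

theorem isCommMonObj_of_mono {H G : Over (Spec (CommRingCat.of k))} [GrpObj H] [GrpObj G] [IsCommMonObj G]
    (i : H ⟶ G) [IsMonHom i] [Mono i] : IsCommMonObj H :=
  ⟨by
    rw [← cancel_mono i]
    simp only [Category.assoc, IsMonHom.mul_hom]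
    rw [← BraidedCategory.braiding_naturality_assoc, IsCommMonObj.mul_comm]⟩

theorem isClosed_range_hom {H G : Over (Spec (CommRingCat.of k))} [GrpObj H] [GrpObj G] (f : H ⟶ G) [IsMonHom f]
    [QuasiCompact f.left] : IsClosed (Set.range f.left) := by
  obtain ⟨H', _, i, f', _, _, hf, hi, -, -, hsur⟩ := SubGrp.exists_subgroup_image H G f
  have e : Set.range f.left = Set.range i.left := by
    rw [← hf, Over.comp_left, Scheme.Hom.comp_base, TopCat.coe_comp, hsur.surj.range_comp]
  rw [e]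
  exact i.left.isClosedEmbedding.isClosed_range

theorem quasiCompact_idComp {G G0 : Over (Spec (CommRingCat.of k))} [GrpObj G] [GrpObj G0]
    [LocallyOfFiniteType G.hom] (i : G0 ⟶ G) (hi : AutSch.IsIdComp i) :
    QuasiCompact G0.hom ∧ LocallyOfFiniteType G0.hom := by
  obtain ⟨-, hop, hrange⟩ := hi
  haveI : LocallyOfFiniteType G0.hom := by rw [← Over.w i]; infer_instance
  haveI : LocallyOfFinitePresentation G0.hom := inferInstance
  haveI : UniversallyOpen G0.hom := inferInstance
  refine ⟨Groth.L08.ActSep.quasiCompact_of_connected fun s => ?_, inferInstance⟩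
  have e : G0.hom ⁻¹' {s} = Set.univ :=
    Set.eq_univ_of_forall fun _ => Subsingleton.elim (α := PrimeSpectrum k) _ _
  rw [e]
  haveI : Subsingleton (𝟙_ (Over (Spec (CommRingCat.of k)))).left :=
    inferInstanceAs (Subsingleton (PrimeSpectrum k))
  let o : (𝟙_ (Over (Spec (CommRingCat.of k)))).left := IsLocalRing.closedPoint k
  have hns : SGA3x.neutralSet G = connectedComponent (η[G].left o) := by
    have e' : G.hom ⁻¹' {(𝟙_ (Over (Spec (CommRingCat.of k)))).hom o} = Set.univ :=
      Set.eq_univ_of_forall fun _ => Subsingleton.elim (α := PrimeSpectrum k) _ _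
    simp only [SGA3x.neutralSet]
    refine Set.Subset.antisymm (Set.iUnion_subset fun p => ?_) ?_
    · rw [Subsingleton.elim p o, e', connectedComponentIn_univ]
    · refine Set.Subset.trans ?_ (Set.subset_iUnion _ o)
      rw [e', connectedComponentIn_univ]
  have himg : i.left '' Set.univ = connectedComponent (η[G].left o) := by
    rw [Set.image_univ, hrange, hns]
  refine ⟨⟨η[G0].left o, trivial⟩, ?_⟩
  rw [← i.left.isOpenEmbedding.isInducing.isPreconnected_image, himg]
  exact isPreconnected_connectedComponent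

/-- The descending sequence of images of power maps stabilises on points. -/
theorem exists_pow_root [IsAlgClosed k] (H : Over (Spec (CommRingCat.of k))) [GrpObj H] [IsCommMonObj H]
    [LocallyOfFiniteType H.hom] [QuasiCompact H.hom] (n : ℕ) :
    ∃ r : ℕ, ∀ x : 𝟙_ (Over (Spec (CommRingCat.of k))) ⟶ H,
      ∃ w : 𝟙_ (Over (Spec (CommRingCat.of k))) ⟶ H, w ^ (n ^ (r + 1)) = x ^ (n ^ r) := by
  let P : ℕ → (H ⟶ H) := fun j => (𝟙 H : H ⟶ H) ^ (n ^ j)
  haveI hP : ∀ j, IsMonHom (P j) := fun j => isMonHom_pow H _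
  haveI : CompactSpace H.left := (quasiCompact_iff_compactSpace H.hom).mp inferInstance
  haveI : IsLocallyNoetherian H.left := LocallyOfFiniteType.isLocallyNoetherian H.hom
  haveI : IsNoetherian H.left := ⟨⟩
  have hlft : ∀ j, LocallyOfFiniteType (P j).left := fun j => by
    haveI : LocallyOfFiniteType ((P j).left ≫ H.hom) := by rw [Over.w]; infer_instance
    exact locallyOfFiniteType_of_comp _ H.hom
  haveI : ∀ j, QuasiCompact (P j).left := fun j => by
    refine ⟨fun U _ hUc => ?_⟩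
    exact TopologicalSpace.NoetherianSpace.isCompact _
  let C : ℕ → TopologicalSpace.Closeds H.left := fun j => ⟨Set.range (P j).left, isClosed_range_hom (P j)⟩
  have hanti : Antitone C := antitone_nat_of_succ_le fun j => by
    show Set.range (P (j + 1)).left ⊆ Set.range (P j).left
    have e : P (j + 1) = ((𝟙 H : H ⟶ H) ^ n) ≫ P j := by
      simp only [P]
      rw [MaxTorus.comp_pow', Category.comp_id, ← pow_mul, pow_succ']
    rw [e, Over.comp_left, Scheme.Hom.comp_base, TopCat.coe_comp]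
    exact Set.range_comp_subset_range _ _
  obtain ⟨r, hr⟩ := WellFoundedGT.monotone_chain_condition (α := (TopologicalSpace.Closeds H.left)ᵒᵈ)
    ⟨fun j => OrderDual.toDual (C j), fun a b h => hanti h⟩
  refine ⟨r, fun x => ?_⟩
  let e : gT k k ≅ 𝟙_ (Over (Spec (CommRingCat.of k))) :=
    Over.isoMk (Iso.refl _) (by
      show 𝟙 _ ≫ 𝟙 _ = Spec.map (CommRingCat.ofHom (algebraMap k k))
      simp)
  have hmem : gpt (e.hom ≫ x ≫ P r) ∈ Set.range (P (r + 1)).left := by
    have h0 : C r = C (r + 1) := congrArg OrderDual.ofDual (hr (r + 1) (Nat.le_succ r))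
    have h1 : gpt (e.hom ≫ x ≫ P r) ∈ (C r : Set H.left) := ⟨_, (gpt_comp (e.hom ≫ x) (P r)).symm⟩
    rw [h0] at h1
    exact h1
  obtain ⟨q, hq⟩ := hmem
  obtain ⟨w, hw, -⟩ := exists_lift_gpt (P (r + 1)) (e.hom ≫ x ≫ P r) isOpen_univ.isLocallyClosed q trivial hq
  refine ⟨e.inv ≫ w, ?_⟩
  have h2 := congrArg (e.inv ≫ ·) hw
  simp only [Iso.inv_hom_id_assoc, P] at h2
  simpa [MaxTorus.comp_pow'] using h2

theorem exists_isOfFinOrder [IsAlgClosed k] {G G0 : Over (Spec (CommRingCat.of k))} [GrpObj G] [IsCommMonObj G]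
    [GrpObj G0] [LocallyOfFiniteType G.hom] (i : G0 ⟶ G) [IsMonHom i] (hi : AutSch.IsIdComp i)
    (g : 𝟙_ (Over (Spec (CommRingCat.of k))) ⟶ G) (n : ℕ) (hn : 0 < n) (hg : g ^ n ∈ AutSch.ptsRange i) :
    ∃ t : 𝟙_ (Over (Spec (CommRingCat.of k))) ⟶ G, IsOfFinOrder t ∧ t⁻¹ * g ∈ AutSch.ptsRange i := by
  haveI : IsOpenImmersion i.left := hi.2.1
  haveI : Mono i := Over.mono_of_mono_left i
  haveI := isCommMonObj_of_mono i
  obtain ⟨hqc, hlft⟩ := quasiCompact_idComp i hi
  obtain ⟨r, hr⟩ := exists_pow_root G0 n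
  obtain ⟨g0, hg0⟩ := (AutSch.mem_ptsRange_iff i _).mp hg
  obtain ⟨w, hw⟩ := hr g0
  have key : (w ≫ i) ^ (n ^ (r + 1)) = g ^ (n ^ (r + 1)) := by
    rw [← MonObj.pow_comp, hw, MonObj.pow_comp, hg0, ← pow_mul, ← pow_succ']
  refine ⟨g * (w ≫ i)⁻¹, isOfFinOrder_iff_pow_eq_one.mpr ⟨n ^ (r + 1), pow_pos hn _, ?_⟩, ?_⟩
  · rw [mul_pow, inv_pow, key, mul_inv_cancel]
  · rw [mul_inv_rev, inv_inv, inv_mul_cancel_right]
    exact (AutSch.mem_ptsRange_iff i _).mpr ⟨w, rfl⟩

end Groth.L15.TorsLift
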